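import Groth.Agent.Nagata.PairGen
import Groth.Agent.Nagata.Boundary

/-!
# Separating disjoint closed subsets at the boundary of a compactification

* `exists_separating_blowup`: if `A`, `B` are disjoint closed subsets of an open subscheme `X` of a
  Noetherian scheme `P`, then after a blow-up of `P` away from `X` their closures are disjoint.
* `exists_separating`: the same for finitely many pairs.
-/

set_option autoImplicit false

universe u

namespace Groth.Agent.LVCompact

open AlgebraicGeometry CategoryTheory Limits TopologicalSpace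

theorem exists_separating_blowup {X P : Scheme.{u}} [IsLocallyNoetherian P] [CompactSpace P]
    (j : X ⟶ P) [IsOpenImmersion j] [CompactSpace X] (A B : Set X) (hA : IsClosed A) (hB : IsClosed B)
    (hAB : Disjoint A B) :
    ∃ (P' : Scheme.{u}) (c : P' ⟶ P) (j' : X ⟶ P'), IsProper c ∧ IsOpenImmersion j' ∧ j' ≫ c = j ∧
      Disjoint (closure (j' '' A)) (closure (j' '' B)) := by
  let I := Scheme.IdealSheafData.vanishingIdeal (⟨closure (j '' A), isClosed_closure⟩ : Closeds P)
  let J := Scheme.IdealSheafData.vanishingIdeal (⟨closure (j '' B), isClosed_closure⟩ : Closeds P)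
  let K := I ⊔ J
  have hIs : (I.support : Set P) = closure (j '' A) :=
    Scheme.IdealSheafData.coe_support_vanishingIdeal _
  have hJs : (J.support : Set P) = closure (j '' B) :=
    Scheme.IdealSheafData.coe_support_vanishingIdeal _
  have hpre : ∀ (S : Set X), IsClosed S → ∀ x, j x ∈ closure (j '' S) → x ∈ S := fun S hS x hx => by
    rw [← hS.closure_eq, j.isOpenEmbedding.isInducing.closure_eq_preimage_closure_image]
    exact hx
  have hd : Disjoint (K.support : Set P) (j.opensRange : Set P) := by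
    rw [Set.disjoint_right]
    rintro _ ⟨x, rfl⟩ hx
    refine Set.disjoint_left.mp hAB (hpre A hA x ?_) (hpre B hB x ?_)
    · exact hIs ▸ Scheme.IdealSheafData.support_antitone (le_sup_left : I ≤ K) hx
    · exact hJs ▸ Scheme.IdealSheafData.support_antitone (le_sup_right : J ≤ K) hx
  obtain ⟨P', c, hc⟩ := BlowUp.Glue.exists_isBlowUp P K
  have hK : BlowUp.IsFiniteTypeIdeal K := fun U => by
    haveI : IsNoetherianRing Γ(P, U.1) := IsLocallyNoetherian.component_noetherian U
    exact IsNoetherian.noetherian _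
  haveI : IsProper c := BlowUpProper.Basic.isProper hc hK
  haveI : IsLocallyNoetherian P' := LocallyOfFiniteType.isLocallyNoetherian c
  haveI : CompactSpace P' := QuasiCompact.compactSpace_of_compactSpace c
  obtain ⟨j', hj'c, hj', -, -, -⟩ := Groth.Agent.Nagata.exists_lift j hc hd
  refine ⟨P', c, j', inferInstance, hj', hj'c, ?_⟩
  rw [Set.disjoint_left]
  intro y hyA hyB
  obtain ⟨U, hyU, e, he, hUe⟩ := hc.1 y
  have hUe' : (I.comap c).ideal U ⊔ (J.comap c).ideal U = Ideal.span {e} := by
    rw [← hUe, show K.comap c = I.comap c ⊔ J.comap c from Scheme.IdealSheafData.comap_sup _ _ _]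
    rfl
  obtain ⟨a, ha, b, hb, hab⟩ : ∃ a ∈ (I.comap c).ideal U, ∃ b ∈ (J.comap c).ideal U, a + b = e :=
    Submodule.mem_sup.mp (hUe' ▸ Ideal.mem_span_singleton_self e)
  obtain ⟨a', rfl⟩ : ∃ a', a' * e = a :=
    Ideal.mem_span_singleton'.mp (hUe' ▸ Ideal.mem_sup_left ha)
  obtain ⟨b', rfl⟩ : ∃ b', b' * e = b :=
    Ideal.mem_span_singleton'.mp (hUe' ▸ Ideal.mem_sup_right hb)
  have h1 : a' + b' = 1 := by
    refine mul_cancel_right_mem_nonZeroDivisors he |>.mp ?_
    rw [one_mul, add_mul, hab]
  -- if `a'` is invertible at `y` then `y` is not in the closure of `A`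
  have key : ∀ (L : P.IdealSheafData) (S : Set X) (a' : Γ(P', U.1)), (∀ x ∈ S, j x ∈ (L.support : Set P)) →
      a' * e ∈ (L.comap c).ideal U → y ∈ P'.basicOpen a' → y ∉ closure (j' '' S) := by
    intro L S a' hS ha hy hcl
    obtain ⟨_, hz, x, hx, rfl⟩ := mem_closure_iff.mp hcl _ (P'.basicOpen a').2 hy
    have hzU : j' x ∈ U.1 := P'.basicOpen_le a' hz
    have hzL : j' x ∈ (L.comap c).support := by
      rw [Scheme.IdealSheafData.support_comap]
      show c (j' x) ∈ (L.support : Set P)
      rw [← Scheme.Hom.comp_apply, hj'c]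
      exact hS x hx
    rw [Scheme.IdealSheafData.mem_support_iff_of_mem hzU, Scheme.mem_zeroLocus_iff] at hzL
    have hze : j' x ∉ P'.basicOpen e := fun hze => hzL _ ha (by
      rw [Scheme.basicOpen_mul]
      exact ⟨hz, hze⟩)
    have hzK : j' x ∈ (K.comap c).support := by
      rw [Scheme.IdealSheafData.mem_support_iff_of_mem hzU, Scheme.mem_zeroLocus_iff]
      intro f hf hzf
      obtain ⟨g, rfl⟩ := Ideal.mem_span_singleton'.mp (hUe ▸ hf)
      rw [Scheme.basicOpen_mul] at hzf
      exact hze hzf.2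
    rw [Scheme.IdealSheafData.support_comap] at hzK
    refine Set.disjoint_left.mp hd (show c (j' x) ∈ (K.support : Set P) from hzK) ⟨x, ?_⟩
    rw [← Scheme.Hom.comp_apply, hj'c]
  have hmem : y ∈ P'.basicOpen a' ∨ y ∈ P'.basicOpen b' := by
    rw [Scheme.mem_basicOpen _ _ _ hyU, Scheme.mem_basicOpen _ _ _ hyU]
    apply IsLocalRing.isUnit_or_isUnit_of_add_one
    rw [← map_add, h1, map_one]
  rcases hmem with h | h
  · exact key I A a' (fun x hx => hIs ▸ subset_closure ⟨x, hx, rfl⟩) ha h hyA
  · exact key J B b' (fun x hx => hJs ▸ subset_closure ⟨x, hx, rfl⟩) hb h hyB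

theorem exists_separating {X S : Scheme.{u}} [IsLocallyNoetherian S] [CompactSpace S] [CompactSpace X]
    {ι : Type*} (s : Finset ι) (A B : ι → Set X) (hA : ∀ i ∈ s, IsClosed (A i))
    (hB : ∀ i ∈ s, IsClosed (B i)) (hAB : ∀ i ∈ s, Disjoint (A i) (B i))
    {P : Scheme.{u}} (p : P ⟶ S) [IsProper p] (j : X ⟶ P) [IsOpenImmersion j] :
    ∃ (P' : Scheme.{u}) (p' : P' ⟶ S) (j' : X ⟶ P'), IsProper p' ∧ IsOpenImmersion j' ∧
      j' ≫ p' = j ≫ p ∧ ∀ i ∈ s, Disjoint (closure (j' '' A i)) (closure (j' '' B i)) := by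
  classical
  induction s using Finset.induction with
  | empty => exact ⟨P, p, j, inferInstance, inferInstance, rfl, fun i hi => absurd hi (Finset.notMem_empty i)⟩
  | insert i s his ih =>
    obtain ⟨P₁, p₁, j₁, hp₁, hj₁, hf₁, hsep⟩ := ih (fun k hk => hA k (Finset.mem_insert_of_mem hk))
      (fun k hk => hB k (Finset.mem_insert_of_mem hk)) (fun k hk => hAB k (Finset.mem_insert_of_mem hk))
    haveI : IsLocallyNoetherian P₁ := LocallyOfFiniteType.isLocallyNoetherian p₁
    haveI : CompactSpace P₁ := QuasiCompact.compactSpace_of_compactSpace p₁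
    obtain ⟨P₂, c, j₂, hc, hj₂, hf₂, hd⟩ := exists_separating_blowup j₁ (A i) (B i)
      (hA i (Finset.mem_insert_self i s)) (hB i (Finset.mem_insert_self i s))
      (hAB i (Finset.mem_insert_self i s))
    refine ⟨P₂, c ≫ p₁, j₂, inferInstance, hj₂, by rw [← Category.assoc, hf₂, hf₁], fun k hk => ?_⟩
    rcases Finset.mem_insert.mp hk with rfl | hk
    · exact hd
    · have hsub : ∀ T : Set X, closure (j₂ '' T) ⊆ c ⁻¹' closure (j₁ '' T) := fun T => by
        refine closure_minimal ?_ (isClosed_closure.preimage c.continuous)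
        rintro _ ⟨x, hx, rfl⟩
        show c (j₂ x) ∈ closure (j₁ '' T)
        rw [← Scheme.Hom.comp_apply, hf₂]
        exact subset_closure ⟨x, hx, rfl⟩
      exact ((hsep k hk).preimage _).mono (hsub _) (hsub _)

/-- A separated finite type scheme over a Noetherian base has a compactification in which it is
dense and in which finitely many given pairs of disjoint closed subsets have disjoint closures. -/
theorem exists_compactification_separating {X S : Scheme.{u}} [IsLocallyNoetherian S] [CompactSpace S]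
    (f : X ⟶ S) [IsSeparated f] [QuasiCompact f] [LocallyOfFiniteType f]
    {ι : Type*} (s : Finset ι) (A B : ι → Set X) (hA : ∀ i ∈ s, IsClosed (A i))
    (hB : ∀ i ∈ s, IsClosed (B i)) (hAB : ∀ i ∈ s, Disjoint (A i) (B i)) :
    ∃ (P : Scheme.{u}) (p : P ⟶ S) (j : X ⟶ P), IsProper p ∧ IsOpenImmersion j ∧ j ≫ p = f ∧
      DenseRange j ∧ ∀ i ∈ s, Disjoint (closure (j '' A i)) (closure (j '' B i)) := by
  haveI : CompactSpace X := QuasiCompact.compactSpace_of_compactSpace f
  obtain ⟨P₀, j₀, p₀, hj₀, -, hp₀, hf⟩ := Groth.Agent.Nagata.hasCompactification f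
  obtain ⟨P₁, p₁, j₁, hp₁, hj₁, hf₁, hsep⟩ := exists_separating s A B hA hB hAB p₀ j₀
  haveI : IsLocallyNoetherian P₁ := LocallyOfFiniteType.isLocallyNoetherian p₁
  haveI : CompactSpace P₁ := QuasiCompact.compactSpace_of_compactSpace p₁
  haveI : QuasiCompact j₁ := QuasiCompact.of_comp j₁ (terminal.from P₁)
  obtain ⟨P, j, c, -, hj, _, _, hc, hjc, -, -⟩ :=
    Groth.Agent.Nagata.exists_compactification_boundary j₁
  refine ⟨P, c ≫ p₁, j, inferInstance, hj, by rw [reassoc_of% hjc, hf₁, hf], j.denseRange, fun i hi => ?_⟩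
  have hsub : ∀ T : Set X, closure (j '' T) ⊆ c ⁻¹' closure (j₁ '' T) := fun T => by
    refine closure_minimal ?_ (isClosed_closure.preimage c.continuous)
    rintro _ ⟨x, hx, rfl⟩
    show c (j x) ∈ closure (j₁ '' T)
    rw [← Scheme.Hom.comp_apply, hjc]
    exact subset_closure ⟨x, hx, rfl⟩
  exact ((hsep i hi).preimage _).mono (hsub _) (hsub _)

end Groth.Agent.LVCompact
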